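import Mathlib
import Groth.Prelude.Def_Fitting
import Groth.Prelude.Def_Pi1

/-!
# The norm of a finite surjective morphism onto an integral normal scheme
-/

set_option autoImplicit false
set_option linter.style.haveILetI false
set_option backward.isDefEq.respectTransparency false
set_option maxHeartbeats 800000

universe u

open CategoryTheory AlgebraicGeometry TopologicalSpace Opposite

namespace Groth.Agent.NormalNorm

/-- The norm of an element of a prime lies in the prime below it. -/
theorem exists_norm_mem {A K B L : Type u} [CommRing A] [IsDomain A] [IsIntegrallyClosed A] [Field K]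
    [Algebra A K] [IsFractionRing A K] [CommRing B] [Algebra A B] [Module.Finite A B] [Field L] [Algebra B L]
    [Algebra K L] [Algebra A L] [IsScalarTower A K L] [IsScalarTower A B L] [FiniteDimensional K L]
    (hinj : Function.Injective (algebraMap B L)) (s : B) :
    ∃ a : A, algebraMap A K a = Algebra.norm K (algebraMap B L s) ∧
      ∀ q : Ideal B, s ∈ q → a ∈ q.comap (algebraMap A B) := by
  let x := algebraMap B L s
  have hs : IsIntegral A s := IsIntegral.of_finite A s
  have hx : IsIntegral A x := hs.map (IsScalarTower.toAlgHom A B L)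
  let P := minpoly A x
  have hxK : IsIntegral K x := hx.tower_top
  have hmin : minpoly K x = P.map (algebraMap A K) := minpoly.isIntegrallyClosed_eq_field_fractions' K hx
  let pb := IntermediateField.adjoin.powerBasis hxK
  have hn : Algebra.norm K x = algebraMap A K (((-1 : A) ^ pb.dim * P.coeff 0) ^ Module.finrank (IntermediateField.adjoin K {x}) L) := by
    rw [Algebra.norm_eq_norm_adjoin, map_pow, map_mul, map_pow, map_neg, map_one]
    congr 1
    rw [← IntermediateField.adjoin.powerBasis_gen hxK, Algebra.PowerBasis.norm_gen_eq_coeff_zero_minpoly,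
      IntermediateField.adjoin.powerBasis_gen hxK, IntermediateField.minpoly_gen, hmin, Polynomial.coeff_map]
  refine ⟨_, hn.symm, fun q hq => ?_⟩
  refine Ideal.pow_mem_of_mem _ (Ideal.mul_mem_left _ _ ?_) _ Module.finrank_pos
  rw [Ideal.mem_comap]
  have h0 : Polynomial.aeval s P = 0 := by
    apply hinj
    rw [map_zero, ← Polynomial.aeval_algebraMap_apply]
    exact minpoly.aeval A x
  rw [← P.X_mul_divX_add, map_add, map_mul, Polynomial.aeval_X, Polynomial.aeval_C] at h0
  rw [eq_neg_of_add_eq_zero_right h0]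
  exact q.neg_mem (Ideal.mul_mem_right _ _ hq)

variable {X Y : Scheme.{u}} [IsIntegral X] [IsIntegral Y] (π : X ⟶ Y)

theorem isFractionRing_stalk {η : Y} (hη : η = genericPoint Y) {W : Y.Opens} (hW : IsAffineOpen W) (h : η ∈ W) :
    @IsFractionRing Γ(Y, W) _ (Y.presheaf.stalk η) _ (Y.presheaf.germ W η h).hom.toAlgebra := by
  subst hη
  haveI : Nonempty W := ⟨⟨_, h⟩⟩
  exact functionField_isFractionRing_of_isAffineOpen Y W hW

theorem map_genericPoint [Surjective π] : π.base (genericPoint X) = genericPoint Y := by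
  apply ((genericPoint_spec Y).eq _).symm
  exact (genericPoint_spec X).image π.continuous |>.trans (by
    rw [Set.image_univ, π.surjective.range_eq, closure_univ])

theorem genericPoint_mem (U : Y.Opens) (x : Y) (hx : x ∈ U) : genericPoint Y ∈ U :=
  (genericPoint_specializes x).mem_open U.isOpen hx

theorem isIntegrallyClosed_of_normal (hY : Pi1.IsNormalScheme Y) {W : Y.Opens} (hW : IsAffineOpen W) [Nonempty W] :
    IsIntegrallyClosed Γ(Y, W) := by
  refine IsIntegrallyClosed.of_localization_maximal fun p _ hp => ?_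
  let P : PrimeSpectrum Γ(Y, W) := ⟨p, hp.isPrime⟩
  have hy : hW.fromSpec P ∈ W := by
    show hW.fromSpec P ∈ (W : Set Y)
    rw [← hW.range_fromSpec]; exact ⟨P, rfl⟩
  letI := TopCat.Presheaf.algebra_section_stalk Y.presheaf ⟨_, hy⟩
  haveI := hW.isLocalization_stalk ⟨_, hy⟩
  haveI := (hY (hW.fromSpec P)).2
  have hPp : (hW.primeIdealOf ⟨_, hy⟩).asIdeal = p := by
    have : hW.primeIdealOf ⟨_, hy⟩ = P := hW.fromSpec.isOpenEmbedding.injective (hW.fromSpec_primeIdealOf _)
    rw [this]
  haveI : IsLocalization p.primeCompl (Y.presheaf.stalk (hW.fromSpec P)) := by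
    convert hW.isLocalization_stalk ⟨_, hy⟩ using 2
    exact hPp.symm
  exact IsIntegrallyClosed.of_equiv
    (IsLocalization.algEquiv p.primeCompl (Y.presheaf.stalk (hW.fromSpec P)) (Localization.AtPrime p)).toRingEquiv

noncomputable section

/-- the value field downstairs -/
abbrev K : CommRingCat.{u} := Y.presheaf.stalk (π.base (genericPoint X))
/-- the value field upstairs -/
abbrev L (X : Scheme.{u}) [IsIntegral X] : CommRingCat.{u} := X.presheaf.stalk (genericPoint X)

variable [IsFinite π] [Surjective π]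

include π in
theorem field_K : IsField (K π) := by
  have h := map_genericPoint π
  unfold K
  rw [h]
  exact Field.toIsField Y.functionField

theorem mem_of_nonempty {U : Y.Opens} {y : Y} (hy : y ∈ U) : π.base (genericPoint X) ∈ U := by
  rw [map_genericPoint π]; exact genericPoint_mem U y hy

theorem hasNorm (hY : Pi1.IsNormalScheme Y) : ∃ d : ℕ, Nrm.HasNorm π d := by
  classical
  letI : Field (K π) := (field_K π).toField
  letI : Field (L X) := inferInstanceAs (Field X.functionField)
  letI : Algebra (K π) (L X) := (π.stalkMap (genericPoint X)).hom.toAlgebra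
  have hloc : ∀ (W : Y.Opens) (hW : IsAffineOpen W) (hη : π.base (genericPoint X) ∈ W),
      FiniteDimensional (K π) (L X) ∧ ∀ s : Γ(X, π ⁻¹ᵁ W), ∃ a : Γ(Y, W),
        Y.presheaf.germ W _ hη a = Algebra.norm (K π) (X.presheaf.germ (π ⁻¹ᵁ W) (genericPoint X) hη s) ∧
        ∀ (x : X) (hx : π.base x ∈ W),
          X.presheaf.germ (π ⁻¹ᵁ W) x hx s ∈ IsLocalRing.maximalIdeal (X.presheaf.stalk x) →
            Y.presheaf.germ W (π.base x) hx a ∈ IsLocalRing.maximalIdeal (Y.presheaf.stalk (π.base x)) := by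
    intro W hW hη
    haveI : Nonempty W := ⟨⟨_, hη⟩⟩
    haveI : Nonempty (π ⁻¹ᵁ W : X.Opens) := ⟨⟨genericPoint X, hη⟩⟩
    haveI : IsDomain Γ(Y, W) := inferInstance
    haveI := isIntegrallyClosed_of_normal hY hW
    letI : Algebra Γ(Y, W) (K π) := (Y.presheaf.germ W _ hη).hom.toAlgebra
    haveI : IsFractionRing Γ(Y, W) (K π) := isFractionRing_stalk (map_genericPoint π) hW hη
    letI : Algebra Γ(Y, W) Γ(X, π ⁻¹ᵁ W) := (π.app W).hom.toAlgebra
    letI : Algebra Γ(X, π ⁻¹ᵁ W) (L X) := (X.presheaf.germ (π ⁻¹ᵁ W) (genericPoint X) hη).hom.toAlgebra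
    haveI : IsFractionRing Γ(X, π ⁻¹ᵁ W) (L X) := isFractionRing_stalk rfl (hW.preimage π) hη
    letI : Algebra Γ(Y, W) (L X) := ((algebraMap (K π) (L X)).comp (algebraMap Γ(Y, W) (K π))).toAlgebra
    haveI : IsScalarTower Γ(Y, W) (K π) (L X) := IsScalarTower.of_algebraMap_eq fun _ => rfl
    haveI : IsScalarTower Γ(Y, W) Γ(X, π ⁻¹ᵁ W) (L X) := IsScalarTower.of_algebraMap_eq fun a =>
      Scheme.Hom.germ_stalkMap_apply π W (genericPoint X) hη a
    haveI : Module.Finite Γ(Y, W) Γ(X, π ⁻¹ᵁ W) := IsFinite.finite_app π W hW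
    have hinj : Function.Injective (algebraMap Γ(X, π ⁻¹ᵁ W) (L X)) := IsFractionRing.injective _ _
    have hfd : FiniteDimensional (K π) (L X) := by
      haveI : FaithfulSMul Γ(Y, W) (L X) := (faithfulSMul_iff_algebraMap_injective _ _).2
        ((algebraMap (K π) (L X)).injective.comp (IsFractionRing.injective Γ(Y, W) (K π)))
      haveI : FaithfulSMul Γ(Y, W) Γ(X, π ⁻¹ᵁ W) := (faithfulSMul_iff_algebraMap_injective _ _).2 fun a b hab =>
        FaithfulSMul.algebraMap_injective Γ(Y, W) (L X) (by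
          rw [IsScalarTower.algebraMap_apply Γ(Y, W) Γ(X, π ⁻¹ᵁ W) (L X), hab, ← IsScalarTower.algebraMap_apply])
      obtain ⟨S, hS⟩ := Module.Finite.fg_top (R := Γ(Y, W)) (M := Γ(X, π ⁻¹ᵁ W))
      let ψ := algebraMap Γ(X, π ⁻¹ᵁ W) (L X)
      let E := IntermediateField.adjoin (K π) (ψ '' (S : Set Γ(X, π ⁻¹ᵁ W)))
      haveI : Finite (ψ '' (S : Set Γ(X, π ⁻¹ᵁ W))) := (S.finite_toSet.image _).to_subtype
      haveI hE : FiniteDimensional (K π) E := IntermediateField.finiteDimensional_adjoin fun z hz => by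
        obtain ⟨c, -, rfl⟩ := hz
        exact ((IsIntegral.of_finite Γ(Y, W) c).map (IsScalarTower.toAlgHom Γ(Y, W) _ (L X))).tower_top
      have hB : ∀ c, ψ c ∈ E := fun c => by
        have hc : c ∈ Submodule.span Γ(Y, W) (S : Set Γ(X, π ⁻¹ᵁ W)) := hS ▸ Submodule.mem_top
        refine Submodule.span_induction (fun z hz => IntermediateField.subset_adjoin _ _ ⟨z, hz, rfl⟩)
          (by rw [map_zero]; exact E.zero_mem) (fun a b _ _ ha hb => by rw [map_add]; exact E.add_mem ha hb)
          (fun r a _ ha => ?_) hc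
        rw [Algebra.smul_def, map_mul, ← IsScalarTower.algebraMap_apply,
          IsScalarTower.algebraMap_apply Γ(Y, W) (K π) (L X)]
        exact E.mul_mem (E.algebraMap_mem _) ha
      have htop : E = ⊤ := eq_top_iff.2 fun z _ => by
        obtain ⟨a, b, -, rfl⟩ := IsFractionRing.div_surjective Γ(X, π ⁻¹ᵁ W) z
        exact E.div_mem (hB a) (hB b)
      haveI : FiniteDimensional (K π) (⊤ : IntermediateField (K π) (L X)) := htop ▸ hE
      exact Module.Finite.equiv IntermediateField.topEquiv.toLinearEquiv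
    haveI := hfd
    refine ⟨hfd, fun s => ?_⟩
    obtain ⟨a, ha, haq⟩ := exists_norm_mem (A := Γ(Y, W)) (K := K π) hinj s
    refine ⟨a, ha, fun x hx hs => ?_⟩
    rw [IsLocalRing.mem_maximalIdeal, mem_nonunits_iff] at hs ⊢
    intro hu
    have hu' := hu.map (π.stalkMap x).hom
    rw [Scheme.Hom.germ_stalkMap_apply] at hu'
    letI := TopCat.Presheaf.algebra_section_stalk X.presheaf (U := π ⁻¹ᵁ W) ⟨x, hx⟩
    let q := (hW.preimage π).primeIdealOf (⟨x, hx⟩ : ↥(π ⁻¹ᵁ W))
    haveI := (hW.preimage π).isLocalization_stalk (⟨x, hx⟩ : ↥(π ⁻¹ᵁ W))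
    have hsq : s ∈ q.asIdeal := by
      by_contra h
      exact hs (IsLocalization.map_units (X.presheaf.stalk x) (⟨s, h⟩ : q.asIdeal.primeCompl))
    have := haq q.asIdeal hsq
    exact ((IsLocalization.AtPrime.isUnit_to_map_iff (X.presheaf.stalk x) q.asIdeal _).1 hu') this
  obtain ⟨y₀⟩ : Nonempty Y := inferInstance
  obtain ⟨W₀, hW₀, hy₀, -⟩ := exists_isAffineOpen_mem_and_subset (X := Y) (x := y₀) (U := ⊤) trivial
  haveI := (hloc W₀ hW₀ (mem_of_nonempty π hy₀)).1
  have hglob : ∀ (U : Y.Opens) (s : Γ(X, π ⁻¹ᵁ U)), ∃ t : Γ(Y, U), ∀ hη : π.base (genericPoint X) ∈ U,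
      Y.presheaf.germ U _ hη t = Algebra.norm (K π) (X.presheaf.germ (π ⁻¹ᵁ U) (genericPoint X) hη s) ∧
      ∀ (x : X) (hx : π.base x ∈ U),
        X.presheaf.germ (π ⁻¹ᵁ U) x hx s ∈ IsLocalRing.maximalIdeal (X.presheaf.stalk x) →
          Y.presheaf.germ U (π.base x) hx t ∈ IsLocalRing.maximalIdeal (Y.presheaf.stalk (π.base x)) := by
    intro U s
    by_cases hη : π.base (genericPoint X) ∈ U
    swap
    · exact ⟨0, fun h => absurd h hη⟩
    have hcov : ∀ y : U, ∃ W : Y.Opens, IsAffineOpen W ∧ y.1 ∈ W ∧ W ≤ U := fun y =>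
      exists_isAffineOpen_mem_and_subset (X := Y) (x := y.1) (U := U) y.2
    choose W hW hyW hWU using hcov
    choose a ha hax using fun y : U => (hloc (W y) (hW y) (mem_of_nonempty π (hyW y))).2
      (X.presheaf.map ((Opens.map π.base).map (homOfLE (hWU y))).op s)
    have hgerm : ∀ y : U, Y.presheaf.germ (W y) _ (mem_of_nonempty π (hyW y)) (a y) =
        Algebra.norm (K π) (X.presheaf.germ (π ⁻¹ᵁ U) (genericPoint X) hη s) := fun y => by
      rw [ha y]
      exact congrArg _ (TopCat.Presheaf.germ_res_apply X.presheaf _ _ _ s)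
    obtain ⟨t, ht, -⟩ := Y.sheaf.existsUnique_gluing' W U (fun y => homOfLE (hWU y))
      (fun y hy => Opens.mem_iSup.2 ⟨⟨y, hy⟩, hyW _⟩) a (fun i j => by
        rcases isEmpty_or_nonempty (W i ⊓ W j : Y.Opens) with he | hne
        · exact TopCat.Presheaf.section_ext Y.sheaf _ _ _ fun z hz => (he.false ⟨z, hz⟩).elim
        · obtain ⟨⟨z, hz⟩⟩ := hne
          have hη' := mem_of_nonempty π hz
          apply germ_injective_of_isIntegral Y _ hη'
          erw [TopCat.Presheaf.germ_res_apply, TopCat.Presheaf.germ_res_apply]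
          exact (hgerm i).trans (hgerm j).symm)
    refine ⟨t, fun _ => ⟨?_, fun x hx hs => ?_⟩⟩
    · rw [← hgerm ⟨_, hη⟩, ← ht]
      exact (TopCat.Presheaf.germ_res_apply Y.presheaf (homOfLE (hWU ⟨_, hη⟩)) _ _ t).symm
    · have h2 := hax ⟨π.base x, hx⟩ x (hyW ⟨_, hx⟩) (by
        rw [TopCat.Presheaf.germ_res_apply]; exact hs)
      rw [← ht] at h2
      erw [TopCat.Presheaf.germ_res_apply] at h2
      exact h2
  choose N hN using hglob
  have heq : ∀ {U : Y.Opens} (t t' : Γ(Y, U)),
      (∀ hη : π.base (genericPoint X) ∈ U, Y.presheaf.germ U _ hη t = Y.presheaf.germ U _ hη t') → t = t' := by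
    intro U t t' h
    rcases isEmpty_or_nonempty U with he | hne
    · exact TopCat.Presheaf.section_ext Y.sheaf _ _ _ fun z hz => (he.false ⟨z, hz⟩).elim
    · obtain ⟨⟨z, hz⟩⟩ := hne
      exact germ_injective_of_isIntegral Y _ (mem_of_nonempty π hz) (h _)
  refine ⟨Module.finrank (K π) (L X), ⟨{
    one_le := Module.finrank_pos
    norm := fun U =>
      { toFun := N U
        map_one' := heq _ _ fun hη => by rw [(hN U 1 hη).1, map_one, map_one, map_one]
        map_mul' := fun s t => heq _ _ fun hη => by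
          rw [(hN U (s * t) hη).1, map_mul, map_mul, map_mul, (hN U s hη).1, (hN U t hη).1] }
    norm_res := fun {U V} i s => heq _ _ fun hη => ?_
    norm_app := fun U g => heq _ _ fun hη => ?_
    norm_mem := fun U s x hx hs => (hN U s (mem_of_nonempty π hx)).2 x hx hs }⟩⟩
  · show Y.presheaf.germ V _ hη (Y.presheaf.map i.op (N U s)) = Y.presheaf.germ V _ hη (N V _)
    rw [(hN V _ hη).1, TopCat.Presheaf.germ_res_apply, (hN U s (i.le hη)).1]
    exact congrArg _ (TopCat.Presheaf.germ_res_apply X.presheaf _ _ _ s).symm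
  · show Y.presheaf.germ U _ hη (N U _) = Y.presheaf.germ U _ hη (g ^ _)
    rw [(hN U _ hη).1, map_pow, ← Algebra.norm_algebraMap (S := L X)]
    exact congrArg _ (Scheme.Hom.germ_stalkMap_apply π U (genericPoint X) hη g).symm

end

end Groth.Agent.NormalNorm
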